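import Groth.Agent.H34.Stein.Unibranch

/-!
# Unibranchness of domains is invariant under isomorphism
-/

universe u

namespace Groth.Agent.H84.Unibranch

theorem isUnibranch_of_ringEquiv {A O : Type u} [CommRing A] [IsLocalRing A] [IsDomain A]
    [CommRing O] [IsLocalRing O] (e : A ≃+* O) (hA : CAlg2.IsUnibranch A) :
    CAlg2.IsUnibranch O := by
  haveI : IsDomain O := MulEquiv.isDomain A e.symm.toMulEquiv
  have hnil : nilradical O = ⊥ := nilradical_eq_zero O
  let r : O →+* CAlg2.red O := Ideal.Quotient.mk (nilradical O)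
  have hr : Function.Bijective r :=
    ⟨(RingHom.injective_iff_ker_eq_bot _).2 (Ideal.mk_ker.trans hnil), Ideal.Quotient.mk_surjective⟩
  haveI : IsDomain (CAlg2.red O) := MulEquiv.isDomain O (RingEquiv.ofBijective r hr).symm.toMulEquiv
  refine ⟨inferInstance, ?_⟩
  let K := FractionRing (CAlg2.red O)
  letI : Algebra A (CAlg2.red O) := (r.comp e.toRingHom).toAlgebra
  have hb : Function.Bijective (algebraMap A (CAlg2.red O)) := hr.comp e.bijective
  let q : A ≃ₐ[A] CAlg2.red O := AlgEquiv.ofBijective (Algebra.ofId A _) hb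
  haveI : FaithfulSMul A K := (faithfulSMul_iff_algebraMap_injective _ _).2 fun a c h => hb.1 (by
    rw [IsScalarTower.algebraMap_apply A (CAlg2.red O) K a,
      IsScalarTower.algebraMap_apply A (CAlg2.red O) K c] at h
    exact IsFractionRing.injective (CAlg2.red O) K h)
  haveI : IsFractionRing A K := by
    refine IsFractionRing.of_field _ _ fun z => ?_
    obtain ⟨a, c, -, rfl⟩ := IsFractionRing.div_surjective (A := CAlg2.red O) z
    obtain ⟨a, rfl⟩ := hb.2 a
    obtain ⟨c, rfl⟩ := hb.2 c
    exact ⟨a, c, by rw [IsScalarTower.algebraMap_apply A (CAlg2.red O) K a, IsScalarTower.algebraMap_apply A (CAlg2.red O) K c]⟩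
  haveI : IsLocalRing (integralClosure A K) := H34.Stein.isLocalRing_integralClosure hA
  have hmem : ∀ z : K, IsIntegral A z ↔ IsIntegral (CAlg2.red O) z := fun z =>
    ⟨fun h => h.tower_top, fun h => by
      haveI : Algebra.IsIntegral A (CAlg2.red O) := ⟨fun w => by
        obtain ⟨a, rfl⟩ := hb.2 w
        exact isIntegral_algebraMap⟩
      exact isIntegral_trans z h⟩
  refine IsLocalRing.of_surjective' (RingHom.codRestrict
    ((integralClosure A K).val.toRingHom) (integralClosure (CAlg2.red O) K)
    (fun z => (hmem _).1 z.2)) fun w => ⟨⟨w.1, (hmem _).2 w.2⟩, Subtype.ext rfl⟩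

end Groth.Agent.H84.Unibranch
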